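import Mathlib
import Cfsg.Agent.Base
import Cfsg.Agent.Lib.ZJ.Constrained
import Cfsg.Agent.Lib.Comp.PConstrained
import Cfsg.Agent.Lib.Core.HallSZ
import Cfsg.Agent.Lib.Core.CoprimeBasic

/-! Fusion control by normalizers of `p`-subgroups that are normal modulo `O_{p'}(G)` (helper58). -/

set_option autoImplicit false

namespace H58

open Subgroup Cfsg
open scoped Pointwise

variable {G : Type*} [Group G] [Finite G] {p : ℕ} [hp : Fact p.Prime]

theorem inf_normalizer_le_centralizer {D H : Subgroup G} [D.Normal] (hD : (Nat.card D).Coprime p)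
    (hH : IsPGroup p H) : D ⊓ normalizer (H : Set G) ≤ centralizer (H : Set G) := by
  intro d hd h hh
  have h1 : h * d * h⁻¹ * d⁻¹ ∈ H ⊓ D := ⟨by
    rw [show h * d * h⁻¹ * d⁻¹ = h * (d * h⁻¹ * d⁻¹) by group]
    exact H.mul_mem hh (H3.conj_mem_of_mem_normalizer hd.2 (H.inv_mem hh)),
    D.mul_mem ((inferInstance : D.Normal).conj_mem _ hd.1 _) (D.inv_mem hd.1)⟩
  rw [H25.ZJ.inf_eq_bot_of_coprime hD hH, mem_bot, mul_inv_eq_one, mul_inv_eq_iff_eq_mul] at h1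
  exact h1

/-- If a `p`-subgroup `Y` and its conjugate by `d ∈ D` both normalize `H`, then `d` factors. -/
theorem exists_factor_of_conj_le_normalizer {D H Y : Subgroup G} [hDn : D.Normal]
    (hD : (Nat.card D).Coprime p) (hH : IsPGroup p H) (hY : IsPGroup p Y)
    (hYN : Y ≤ normalizer (H : Set G)) {d : G} (hd : d ∈ D)
    (hdY : ∀ y ∈ Y, d⁻¹ * y * d ∈ normalizer (H : Set G)) :
    ∃ d₁ ∈ D ⊓ centralizer (Y : Set G), ∃ d₂ ∈ D ⊓ centralizer (H : Set G), d = d₁ * d₂ := by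
  set C : Subgroup G := D ⊓ normalizer (H : Set G) with hC
  have hYC : Y ≤ normalizer (C : Set G) :=
    H2.le_normalizer_inf le_normalizer_of_normal (hYN.trans le_normalizer)
  obtain ⟨e, he, hle⟩ := H3.exists_conj_le_of_isPGroup (p := p) (N := C) (K := Y)
    (P := MulAut.conj d⁻¹ • Y) hYC (hY.map (MulAut.conj d⁻¹).toMonoidHom) (by
      intro x hx
      rw [H1.mem_conj_smul_iff, inv_inv] at hx
      have h1 : x = (x * (d * x * d⁻¹)⁻¹) * (d * x * d⁻¹) := by group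
      rw [h1]
      refine mul_mem_sup ⟨?_, (normalizer (H : Set G)).mul_mem ?_ ((normalizer (H : Set G)).inv_mem (hYN hx))⟩ hx
      · rw [show x * (d * x * d⁻¹)⁻¹ = (x * d * x⁻¹) * d⁻¹ by group]
        exact D.mul_mem (hDn.conj_mem _ hd _) (D.inv_mem hd)
      · simpa [mul_assoc] using hdY _ hx)
    ((Nat.Prime.coprime_iff_not_dvd hp.out).mp
      (Nat.Coprime.coprime_dvd_left (card_dvd_of_le inf_le_left) hD).symm)
  refine ⟨d * e⁻¹, ⟨D.mul_mem hd (D.inv_mem he.1), fun y hy => ?_⟩, e,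
    ⟨he.1, inf_normalizer_le_centralizer hD hH he⟩, by group⟩
  have h1 : e * (d⁻¹ * y * d⁻¹⁻¹) * e⁻¹ ∈ Y :=
    hle (H1.conj_mem_conj_smul (H1.conj_mem_conj_smul hy))
  have h2 : y⁻¹ * (e * (d⁻¹ * y * d⁻¹⁻¹) * e⁻¹) ∈ Y ⊓ D := ⟨Y.mul_mem (Y.inv_mem hy) h1, by
    rw [show y⁻¹ * (e * (d⁻¹ * y * d⁻¹⁻¹) * e⁻¹) = (y⁻¹ * (e * d⁻¹) * y) * (d * e⁻¹) by group]
    exact D.mul_mem (hDn.conj_mem' _ (D.mul_mem he.1 (D.inv_mem hd)) _)
      (D.mul_mem hd (D.inv_mem he.1))⟩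
  rw [H25.ZJ.inf_eq_bot_of_coprime hD hY, mem_bot] at h2
  calc y * (d * e⁻¹) = (d * e⁻¹) * y * (y⁻¹ * (e * (d⁻¹ * y * d⁻¹⁻¹) * e⁻¹)) := by group
    _ = d * e⁻¹ * y := by rw [h2, mul_one]

/-- If `G = D N(H)` with `D` a normal `p'`-subgroup then `N(H)` controls strong fusion among its
`p`-subgroups. -/
theorem exists_factor_of_sup_normalizer {D H Y : Subgroup G} [hDn : D.Normal]
    (hD : (Nat.card D).Coprime p) (hH : IsPGroup p H) (htop : D ⊔ normalizer (H : Set G) = ⊤)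
    (hY : IsPGroup p Y) (hYN : Y ≤ normalizer (H : Set G)) {g : G}
    (hg : ∀ y ∈ Y, g * y * g⁻¹ ∈ normalizer (H : Set G)) :
    ∃ n ∈ normalizer (H : Set G), ∃ c ∈ D ⊓ centralizer (Y : Set G), g = n * c := by
  have : g ∈ normalizer (H : Set G) ⊔ D := by rw [sup_comm, htop]; trivial
  obtain ⟨n, hn, d, hd, rfl⟩ := mem_sup_of_normal_right.mp this
  obtain ⟨d₁, h₁, d₂, h₂, h⟩ := exists_factor_of_conj_le_normalizer hD hH hY hYN (D.inv_mem hd)
    (fun y hy => by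
      have := mul_mem (mul_mem (inv_mem hn) (hg y hy)) hn
      convert this using 1
      group)
  refine ⟨n * d₂⁻¹, mul_mem hn (inv_mem (centralizer_le_normalizer _ h₂.2)), d₁⁻¹, inv_mem h₁, ?_⟩
  rw [mul_assoc, ← mul_inv_rev, ← h, inv_inv]

theorem map_sylow_inf_pPrimePCore (P : Sylow p G) :
    ((P : Subgroup G) ⊓ pPrimePCore p G).map (QuotientGroup.mk' (pPrimeCore p G)) =
      pCore p (G ⧸ pPrimeCore p G) :=
  H25.ZJ.map_sylow_inf_comap P (H25.ZJ.le_map_sylow P H1.isPGroup_pCore)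

theorem pPrimeCore_sup_normalizer_sylow_inf (P : Sylow p G) :
    pPrimeCore p G ⊔ normalizer (((P : Subgroup G) ⊓ pPrimePCore p G : Subgroup G) : Set G) = ⊤ :=
  H25.ZJ.sup_normalizer_eq_top_of_map_normal H1.coprime_card_pPrimeCore
    (P.isPGroup'.to_le inf_le_left) (by rw [map_sylow_inf_pPrimePCore]; infer_instance)

omit [Finite G] hp in
theorem sylow_le_normalizer_inf (P : Sylow p G) (N : Subgroup G) [N.Normal] :
    (P : Subgroup G) ≤ normalizer (((P : Subgroup G) ⊓ N : Subgroup G) : Set G) :=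
  H2.le_normalizer_inf le_normalizer le_normalizer_of_normal

end H58
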