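import Mathlib
import Cfsg.Agent.Base
import Cfsg.Agent.Lib.Core.PCore
import Cfsg.Agent.Lib.Core.GrpBasic
import Cfsg.Agent.Lib.Thompson.Basic
import Cfsg.Agent.Lib.KInf.Transport
import Cfsg.Agent.Lib.Invol.Dihedral

/-! Groups with abelian Sylow subgroups: minimal noncommuting pairs; recognition of `S₄`-sections
(helper58). -/

set_option autoImplicit false

namespace H58

open Subgroup Cfsg
open scoped Pointwise

/-- In a group with abelian `p`-subgroups an elementary abelian `p`-subgroup outside `O_p` has a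
conjugate generating a minimal subgroup with it. -/
theorem exists_minimal_pair {H : Type*} [Group H] [Finite H] {p : ℕ}
    (hab : ∀ T : Subgroup H, IsPGroup p T → T ≤ centralizer (T : Set H)) {A : Subgroup H}
    (hA : IsElementaryAbelian p A) (hn : ¬ A ≤ pCore p H) :
    ∃ (L : Subgroup H) (x : H), x ∈ L ∧ A ≤ L ∧ MulAut.conj x • A ≤ L ∧
      ¬ A ≤ centralizer ((MulAut.conj x • A : Subgroup H) : Set H) ∧
      (∀ a ∈ A, a ∉ centralizer ((MulAut.conj x • A : Subgroup H) : Set H) →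
        L ≤ zpowers a ⊔ MulAut.conj x • A) ∧
      (∀ b ∈ MulAut.conj x • A, b ∉ centralizer (A : Set H) → L ≤ zpowers b ⊔ A) := by
  obtain ⟨L, ⟨hAL, hL⟩, hmin⟩ := (wellFounded_lt (α := Subgroup H)).has_min
    {L | A ≤ L ∧ ¬ A ≤ pCoreOf p L} ⟨⊤, le_top, by rwa [H1.pCoreOf_top]⟩
  have hcL : ∀ x ∈ L, MulAut.conj x • L = L := fun x hx =>
    H1.mem_normalizer_iff_conj_smul_eq.mp (le_normalizer hx)
  have hxA : ∀ x ∈ L, MulAut.conj x • A ≤ L := fun x hx => by
    rw [← hcL x hx]; exact pointwise_smul_le_pointwise_smul_iff.mpr hAL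
  have hcore : ∀ x ∈ L, ∀ M : Subgroup H, M < L → MulAut.conj x • A ≤ M →
      MulAut.conj x • A ≤ pCoreOf p M := by
    intro x hx M hM hAM
    have h1 : MulAut.conj x⁻¹ • M < L := by
      rw [← hcL x⁻¹ (L.inv_mem hx)]
      exact lt_of_le_of_ne (pointwise_smul_le_pointwise_smul_iff.mpr hM.le)
        fun h => hM.ne (smul_left_cancel _ h)
    have h2 : A ≤ MulAut.conj x⁻¹ • M := by
      rw [← H1.conj_inv_smul_conj_smul x A]; exact pointwise_smul_le_pointwise_smul_iff.mpr hAM
    have h3 : A ≤ pCoreOf p (MulAut.conj x⁻¹ • M) := by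
      by_contra h
      exact hmin _ ⟨h2, h⟩ h1
    rw [← H1.conj_smul_pCoreOf] at h3
    rw [← H1.conj_smul_conj_inv_smul x (pCoreOf p M)]
    exact pointwise_smul_le_pointwise_smul_iff.mpr h3
  have hgen : ∀ x ∈ L, ∀ a ∈ L, a ^ p = 1 →
      a ∉ centralizer ((MulAut.conj x • A : Subgroup H) : Set H) →
      L ≤ zpowers a ⊔ MulAut.conj x • A := by
    intro x hx a ha hap hac
    by_contra hne
    have hlt : zpowers a ⊔ MulAut.conj x • A < L :=
      lt_of_le_not_ge (sup_le (zpowers_le.mpr ha) (hxA x hx)) hne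
    have h1 := hcore x hx _ hlt le_sup_right
    have h2 : IsPGroup p (zpowers a ⊔ pCoreOf p (zpowers a ⊔ MulAut.conj x • A) : Subgroup H) :=
      IsPGroup.to_sup_of_normal_right' (H24.EA.isPGroup (H24.EA.zpowers hap))
        (H1.isPGroup_pCoreOf _) (le_sup_left.trans (H1.le_normalizer_pCoreOf _))
    exact hac (H24.centralizer_anti (h1.trans le_sup_right)
      (hab _ h2 (mem_sup_left (mem_zpowers a))))
  obtain ⟨x, hx, hxc⟩ : ∃ x ∈ L, ¬ A ≤ centralizer ((MulAut.conj x • A : Subgroup H) : Set H) := by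
    by_contra! h
    apply hL
    have hN : IsElementaryAbelian p (⨆ x : L, MulAut.conj (x : H) • A : Subgroup H) := by
      refine H24.EA.iSup (fun x => H24.EA.map hA _) fun x y => ?_
      have := pointwise_smul_le_pointwise_smul_iff (a := MulAut.conj (x : H)).mpr
        (h _ (L.mul_mem (L.inv_mem x.2) y.2))
      rwa [← H1.centralizer_conj_smul, H1.conj_smul_conj_smul, mul_inv_cancel_left] at this
    refine le_trans ?_ (H1.le_pCoreOf (iSup_le fun x : L => hxA x x.2) (fun g hg => ?_)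
      (H24.EA.isPGroup hN))
    · refine le_iSup_of_le (1 : L) ?_
      simp
    · rw [H1.mem_normalizer_iff_conj_smul_eq]
      refine eq_of_le_of_card_ge ?_ (H1.card_conj_smul _ _).ge
      rw [H1.conj_smul_eq_map, Subgroup.map_iSup]
      refine iSup_le fun x => le_iSup_of_le (⟨g, hg⟩ * x) ?_
      rw [← H1.conj_smul_eq_map, H1.conj_smul_conj_smul]
      rfl
  refine ⟨L, x, hx, hAL, hxA x hx, hxc, fun a ha => hgen x hx a (hAL ha) (hA.2 a ha),
    fun b hb hbc => ?_⟩
  have := hgen 1 L.one_mem b (hxA x hx hb) ((H24.EA.map hA _).2 b hb) (by simpa using hbc)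
  simpa using this

/-- A symmetric group is involved if generators are realised on a finite family of points. -/
theorem involves_perm_of_action {G X ι : Type*} [Group G] [MulAction G X] (e : ι → X)
    (he : Function.Injective e) (s : Set (Equiv.Perm ι)) (hs : closure s = ⊤)
    (h : ∀ σ ∈ s, ∃ g : G, ∀ i, g • e i = e (σ i)) : Involves (Equiv.Perm ι) G := by
  let P : Subgroup (G × Equiv.Perm ι) :=
    { carrier := {q | ∀ i, q.1 • e i = e (q.2 i)}
      one_mem' := fun i => by simp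
      mul_mem' := fun {a b} ha hb i => by
        rw [Prod.fst_mul, Prod.snd_mul, mul_smul, hb i, ha, Equiv.Perm.mul_apply]
      inv_mem' := fun {a} ha i => by
        rw [Prod.fst_inv, Prod.snd_inv, inv_smul_eq_iff, ha]; simp }
  let f1 : P →* G := (MonoidHom.fst _ _).comp P.subtype
  let f2 : P →* Equiv.Perm ι := (MonoidHom.snd _ _).comp P.subtype
  have h1 : Function.Injective f1 := by
    rintro ⟨⟨g, σ⟩, hg⟩ ⟨⟨g', σ'⟩, hg'⟩ h
    obtain rfl : g = g' := h
    exact Subtype.ext (Prod.ext rfl (Equiv.ext fun i => he ((hg i).symm.trans (hg' i))))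
  have h2 : Function.Surjective f2 := by
    rw [← MonoidHom.range_eq_top, eq_top_iff, ← hs, closure_le]
    intro σ hσ
    obtain ⟨g, hg⟩ := h σ hσ
    exact ⟨⟨(g, σ), hg⟩, rfl⟩
  exact H57.involves_of_surjective f1.range
    (f2.comp (MonoidHom.ofInjective h1).symm.toMonoidHom)
    (h2.comp (MonoidHom.ofInjective h1).symm.surjective)

/-- Two involutions inducing distinct transvections on a four-group section of a normal elementary
abelian `2`-subgroup give an `S₄`-section. -/
theorem involves_S4 {G : Type*} [Group G] {V Z : Subgroup G} [hVn : V.Normal]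
    (hV : IsElementaryAbelian 2 V) (hZV : Z ≤ V) {a b u w z : G} (ha : a * a = 1) (hb : b * b = 1)
    (hu : u ∈ V) (hw : w ∈ V) (hz : z ∈ Z) (haZ : a ∈ centralizer (Z : Set G))
    (hbZ : b ∈ centralizer (Z : Set G)) (hau : a * u * a⁻¹ = u) (haw : a * w * a⁻¹ = u * w)
    (hbw : b * w * b⁻¹ = w) (hbu : b * u * b⁻¹ = z * (u * w)) (huZ : u ∉ Z) (hwZ : w ∉ Z) :
    Involves (Equiv.Perm (Fin 4)) G := by
  have hsq : ∀ v ∈ V, v * v = 1 := fun v hv => by rw [← pow_two]; exact hV.2 v hv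
  have hc : ∀ v ∈ V, ∀ v' ∈ V, v * v' = v' * v := fun v hv v' hv' => H24.EA.comm hV hv hv'
  have hinv : ∀ v ∈ V, v⁻¹ = v := fun v hv => inv_eq_of_mul_eq_one_right (hsq v hv)
  have haz : ∀ y ∈ Z, a * y * a⁻¹ = y := fun y hy => by rw [← haZ y hy, mul_inv_cancel_right]
  have hbz : ∀ y ∈ Z, b * y * b⁻¹ = y := fun y hy => by rw [← hbZ y hy, mul_inv_cancel_right]
  have hu1 : u ≠ 1 := by rintro rfl; exact huZ Z.one_mem
  have cj : ∀ g x y : G, g * (x * y) * g⁻¹ = (g * x * g⁻¹) * (g * y * g⁻¹) := fun g x y => by group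
  have hfa : ∀ y ∈ Z, a * (y * w) * a⁻¹ ≠ y * w := fun y hy h => by
    rw [cj, haz y hy, haw, mul_right_inj, mul_eq_right] at h
    exact hu1 h
  have huwZ : u * w ∉ Z := fun h => hfa (u * w * w * w) (by
    rw [mul_assoc (u * w), hsq w hw, mul_one]; exact h) (by
    have e : u * w * w * w * w = u := by rw [mul_assoc, mul_assoc u, hsq w hw]; simp
    rw [e, hau])
  set Y : Subgroup G := Z ⊔ closure {a, b} with hY
  have hD : closure {a, b} ≤ centralizer (Z : Set G) := by
    rw [closure_le]; rintro _ (rfl | rfl); exacts [haZ, hbZ]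
  have hfix : ∀ v ∈ V, v ∈ Y → a * v * a⁻¹ = v ∧ b * v * b⁻¹ = v := by
    intro v hv hvY
    obtain ⟨y, hy, d, hd, rfl⟩ := (H24.mem_sup_of_le_normalizer'
      (hD.trans (centralizer_le_normalizer _))).mp hvY
    have hdV : d ∈ V := by simpa using V.mul_mem (V.inv_mem (hZV hy)) hv
    obtain ⟨k, rfl | rfl⟩ := (H9.mem_closure_pair_iff ha hb d).mp hd
    · rw [cj, cj, haz y hy, hbz y hy, H9.conj_zpow_of_inverts (H9.left_inverts ha hb),
        H9.conj_zpow_of_inverts (H9.right_inverts ha hb), hinv _ hdV]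
      exact ⟨rfl, rfl⟩
    · exfalso
      have h1 : ∀ v ∈ V, a * v * a⁻¹ = ((a * b) ^ k)⁻¹ * v * (a * b) ^ k := fun v hv => by
        calc a * v * a⁻¹ = ((a * b) ^ k)⁻¹ * ((a * b) ^ k * a * v) * a⁻¹ := by group
          _ = _ := by rw [hc _ hdV v hv]; group
      have h2 : a * ((a * b) * w * (a * b)⁻¹) * a⁻¹ = (a * b) * (a * w * a⁻¹) * (a * b)⁻¹ := by
        rw [h1 _ (hVn.conj_mem w hw _), h1 w hw]
        generalize a * b = c
        group
      have h3 : a * ((a * b) * w * (a * b)⁻¹) * a⁻¹ = w := by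
        calc a * ((a * b) * w * (a * b)⁻¹) * a⁻¹ = (a * a) * (b * w * b⁻¹) * (a * a)⁻¹ := by group
          _ = w := by rw [ha, hbw]; group
      have h4 : (a * b) * (a * w * a⁻¹) * (a * b)⁻¹ = z * u := by
        calc (a * b) * (a * w * a⁻¹) * (a * b)⁻¹ = a * (b * (u * w) * b⁻¹) * a⁻¹ := by
              rw [haw]; group
          _ = a * (z * u * (w * w)) * a⁻¹ := by rw [cj b, hbu, hbw]; group
          _ = z * u := by rw [hsq w hw, mul_one, cj, haz z hz, hau]
      rw [h3, h4] at h2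
      apply huwZ
      rw [h2, hc z (hZV hz) u hu, ← mul_assoc, hsq u hu, one_mul]
      exact hz
  have huY : u ∉ Y := fun h => hwZ (by
    have h1 := (hfix u hu h).2
    rw [hbu, hc u hu w hw, ← mul_assoc, mul_eq_right, mul_eq_one_iff_inv_eq] at h1
    rw [← h1]; exact Z.inv_mem hz)
  have hwY : w ∉ Y := fun h => hfa 1 Z.one_mem (by simpa using (hfix w hw h).1)
  have huwY : u * w ∉ Y := fun h => by
    have h1 := (hfix _ (V.mul_mem hu hw) h).1
    rw [cj, hau, haw, mul_right_inj, mul_eq_right] at h1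
    exact hu1 h1
  have haY : a ∈ Y := mem_sup_right (subset_closure (by simp))
  have hbY : b ∈ Y := mem_sup_right (subset_closure (by simp))
  have hzY : z ∈ Y := mem_sup_left hz
  have hsm : ∀ g x y : G, (g * x)⁻¹ * y ∈ Y → g • (x : G ⧸ Y) = (y : G ⧸ Y) := fun g x y h => by
    rw [MulAction.Quotient.smul_mk, smul_eq_mul]; exact QuotientGroup.eq.mpr h
  have hcj : ∀ g ∈ Y, ∀ x y : G, ∀ c ∈ Y, g * x * g⁻¹ * c = y → (g * x)⁻¹ * y ∈ Y := by
    rintro g hg x _ c hc rfl
    rw [show (g * x)⁻¹ * (g * x * g⁻¹ * c) = g⁻¹ * c by group]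
    exact Y.mul_mem (Y.inv_mem hg) hc
  let e : Fin 4 → G ⧸ Y := ![((1 : G) : G ⧸ Y), (u : G ⧸ Y), ((u * w : G) : G ⧸ Y), (w : G ⧸ Y)]
  have hne : ∀ x y : G, x⁻¹ * y ∉ Y → (x : G ⧸ Y) ≠ (y : G ⧸ Y) := fun x y h h' =>
    h (QuotientGroup.eq.mp h')
  have n01 := hne 1 u (by simpa using huY)
  have n02 := hne 1 (u * w) (by simpa using huwY)
  have n03 := hne 1 w (by simpa using hwY)
  have n12 := hne u (u * w) (by simpa using hwY)
  have n13 := hne u w (by rwa [hinv u hu])
  have n23 := hne (u * w) w (by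
    rwa [hinv _ (V.mul_mem hu hw), mul_assoc, hsq w hw, mul_one])
  have he : Function.Injective e := by
    intro i j hij
    fin_cases i <;> fin_cases j <;>
      first | rfl | exact absurd hij ‹_› | exact absurd hij.symm ‹_›
  refine involves_perm_of_action e he
    (Set.range fun i : Fin 3 => Equiv.swap i.castSucc i.succ) ?_ ?_
  · rw [eq_top_iff]
    intro σ _
    exact Subgroup.le_closure_toSubmonoid _
      (by rw [Equiv.Perm.mclosure_swap_castSucc_succ]; trivial)
  have a0 := hsm a 1 1 (hcj a haY _ _ 1 Y.one_mem (by simp))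
  have a1 := hsm a u u (hcj a haY _ _ 1 Y.one_mem (by rw [hau, mul_one]))
  have a2 := hsm a (u * w) w (hcj a haY _ _ 1 Y.one_mem (by
    rw [cj, hau, haw, ← mul_assoc, hsq u hu]; simp))
  have a3 := hsm a w (u * w) (hcj a haY _ _ 1 Y.one_mem (by rw [haw, mul_one]))
  have b0 := hsm b 1 1 (hcj b hbY _ _ 1 Y.one_mem (by simp))
  have b1 := hsm b u (u * w) (hcj b hbY _ _ z hzY (by
    rw [hbu, hc z (hZV hz) _ (V.mul_mem hu hw), mul_assoc, hsq z (hZV hz), mul_one]))
  have b2 := hsm b (u * w) u (hcj b hbY _ _ z hzY (by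
    rw [cj, hbu, hbw, mul_assoc z, mul_assoc u, hsq w hw, mul_one, hc z (hZV hz) u hu, mul_assoc,
      hsq z (hZV hz), mul_one]))
  have b3 := hsm b w w (hcj b hbY _ _ 1 Y.one_mem (by rw [hbw, mul_one]))
  have u0 := hsm u 1 u (by simp)
  have u1 := hsm u u 1 (by simp [hsq u hu])
  have u2 := hsm u (u * w) w (by simp [← mul_assoc, hsq u hu])
  have u3 := hsm u w (u * w) (by simp)
  rintro _ ⟨i, rfl⟩
  fin_cases i
  · refine ⟨u * a, fun j => ?_⟩
    rw [mul_smul]
    fin_cases j
    · exact (congrArg (u • ·) a0).trans u0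
    · exact (congrArg (u • ·) a1).trans u1
    · exact (congrArg (u • ·) a2).trans u3
    · exact (congrArg (u • ·) a3).trans u2
  · refine ⟨b, fun j => ?_⟩
    fin_cases j
    exacts [b0, b1, b2, b3]
  · refine ⟨a, fun j => ?_⟩
    fin_cases j
    exacts [a0, a1, a2, a3]

end H58
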