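import Mathlib
import Cfsg.Agent.Lib.Fusion.GroupSub
import Cfsg.Agent.Lib.Fusion.Constr
import Cfsg.Agent.Lib.Core.HallSZ

/-! Normal subgroups of the fusion system of a group and control of strong fusion. -/

set_option autoImplicit false
set_option linter.style.haveILetI false

namespace H58

open Subgroup Cfsg
open scoped Pointwise

variable {G : Type*} [Group G]

/-- `N_L(Q)` controls strong `L`-fusion in `T`. -/
def Ctrl (L T Q : Subgroup G) : Prop :=
  ∀ A : Subgroup G, A ≤ T → ∀ n ∈ L, A.map (MulAut.conj n).toMonoidHom ≤ T →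
    ∃ h ∈ L ⊓ normalizer (Q : Set G), ∃ c ∈ L ⊓ centralizer (A : Set G), n = h * c

theorem isNormal_subgroup_iff [Finite G] {L T Q : Subgroup G} (h : T ≤ L) :
    (fusionSystemOfSubgroup L T h).IsNormal Q ↔ Q ≤ T ∧ Ctrl L T Q := by
  rw [H90.isNormal_iff]
  refine and_congr_right fun hQ => ⟨fun H A hA n hn hAn => ?_, fun H P σ hσ => ?_⟩
  · obtain ⟨τ, h1, h2, h3⟩ := H A (H90.cj n)
      (H90.map_subgroup.2 ⟨hA, fun x hx => hAn ⟨x, hx, rfl⟩, n, hn, fun _ _ => rfl⟩)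
    obtain ⟨-, -, g, hg, e⟩ := H90.map_subgroup.1 h1
    refine ⟨g, ⟨hg, H3.mem_normalizer_of_conj_mem fun x hx => e x (mem_sup_right hx) ▸ h3 x hx⟩,
      g⁻¹ * n, ⟨L.mul_mem (L.inv_mem hg) hn, fun a ha => ?_⟩, by group⟩
    have := (e a (mem_sup_left ha)).symm.trans (h2 a ha)
    calc a * (g⁻¹ * n) = g⁻¹ * (g * a * g⁻¹) * n := by group
      _ = _ := by rw [this, H90.cj_apply]; group
  · obtain ⟨h1, h2, n, hn, e⟩ := H90.map_subgroup.1 hσ
    obtain ⟨g, hg, c, hc, rfl⟩ := H P h1 n hn (by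
      rintro _ ⟨x, hx, rfl⟩
      exact (e x hx ▸ h2 x hx : n * x * n⁻¹ ∈ T))
    have e' : ∀ x ∈ P, H90.cj g x = σ x := fun x hx => by
      rw [e x hx, H90.cj_apply, mul_assoc g c, ← hc.2 x hx]; group
    have hQ' : ∀ x ∈ Q, H90.cj g x ∈ Q := fun x hx => H3.conj_mem_of_mem_normalizer hg.2 hx
    exact ⟨H90.cj g, H90.map_subgroup.2 ⟨sup_le h1 hQ, (H90.homOn_cj _ g).mem_of_sup
      (fun x hx => e' x hx ▸ h2 x hx) (fun x hx => hQ (hQ' x hx)), g, hg.1, fun _ _ => rfl⟩, e', hQ'⟩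

theorem Ctrl.conj {L T Q : Subgroup G} [L.Normal] (h : Ctrl L T Q) {x : G}
    (hx : x ∈ normalizer (T : Set G)) : Ctrl L T (Q.map (MulAut.conj x).toMonoidHom) := by
  intro A hA n hn hAn
  obtain ⟨g, hg, c, hc, e⟩ := h (A.map (MulAut.conj x⁻¹).toMonoidHom) (by
      rintro _ ⟨a, ha, rfl⟩
      exact H3.conj_mem_of_mem_normalizer (inv_mem hx) (hA ha)) (x⁻¹ * n * x)
    (Normal.conj_mem' inferInstance n hn x) (by
      rintro _ ⟨_, ⟨a, ha, rfl⟩, rfl⟩
      have := H3.conj_mem_of_mem_normalizer' hx (hAn ⟨a, ha, rfl⟩)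
      convert this using 1
      simp [mul_assoc])
  refine ⟨x * g * x⁻¹, ⟨Normal.conj_mem inferInstance g hg.1 x, ?_⟩, x * c * x⁻¹,
    ⟨Normal.conj_mem inferInstance c hc.1 x, fun a ha => ?_⟩, ?_⟩
  · rw [H93.normalizer_map_conj]
    exact ⟨g, hg.2, rfl⟩
  · have := hc.2 _ ⟨a, ha, rfl⟩
    simp only [MulEquiv.coe_toMonoidHom, MulAut.conj_apply, inv_inv] at this
    calc a * (x * c * x⁻¹) = x * (x⁻¹ * a * x * c) * x⁻¹ := by group
      _ = _ := by rw [this]; group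
  · calc n = x * (x⁻¹ * n * x) * x⁻¹ := by group
      _ = _ := by rw [e]; group

theorem ctrl_top_iff {T Q : Subgroup G} : Ctrl ⊤ T Q ↔
    ∀ A : Subgroup G, A ≤ T → ∀ g : G, A.map (MulAut.conj g).toMonoidHom ≤ T →
      ∃ h ∈ normalizer (Q : Set G), ∃ c ∈ centralizer (A : Set G), g = h * c := by
  simp [Ctrl]

theorem isNormal_group_iff [Finite G] {T Q : Subgroup G} :
    (groupFusionSystem T).IsNormal Q ↔ Q ≤ T ∧ Ctrl ⊤ T Q := by
  rw [H91.group_eq_subgroup, isNormal_subgroup_iff]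

/-- Control of fusion lifts from a normal subgroup for invariant subgroups. -/
theorem Ctrl.lift [Finite G] {p : ℕ} [Fact p.Prime] (P : Sylow p G) {N W : Subgroup G} [N.Normal]
    (hW : W ≤ (P : Subgroup G) ⊓ N) (h : Ctrl N ((P : Subgroup G) ⊓ N) W)
    (hn : normalizer (((P : Subgroup G) ⊓ N : Subgroup G) : Set G) ≤ normalizer (W : Set G)) :
    Ctrl ⊤ (P : Subgroup G) W := by
  have hs := H68.sylowIn_top P
  have hinv := H91.inv_subgroup hs (K := N) le_top (by rw [normalizer_eq_top])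
  refine ((isNormal_subgroup_iff hs.le).1 (hinv.isNormal_of_invariant P.isPGroup'
    (H91.isSaturated_subgroup hs) ((isNormal_subgroup_iff _).2 ⟨hW, h⟩) fun α hα x hx => ?_)).2
  obtain ⟨-, -, g, -, e⟩ := H90.map_subgroup.1 hα.map
  rw [e x (hW hx)]
  exact H3.conj_mem_of_mem_normalizer
    (hn (H3.mem_normalizer_of_conj_mem fun y hy => e y hy ▸ hα.mem hy)) hx

end H58
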