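import Mathlib
import Cfsg.Agent.Base
import Cfsg.Agent.Lib.Tech58.AbSylow
import Cfsg.Agent.Lib.Thompson.Factor
import Cfsg.Agent.Lib.Core.CoprimeAbelian
import Cfsg.Agent.Lib.LocEven.CharP
import Cfsg.Agent.Lib.Comp.PConstrained
import Cfsg.Agent.Lib.ZJ.Constrained

/-! `S₄`-free `2`-constrained groups with Sylow `2`-subgroups of class at most two (helper58). -/

set_option autoImplicit false

namespace H58

open Subgroup Cfsg
open scoped Pointwise commutatorElement

variable {G : Type*} [Group G]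

theorem conj_mul_inv_not_mem {V A B : Subgroup G} {x u b : G}
    (hx : ∀ b ∈ B, x⁻¹ * b * x ∈ A) (hu : u ∈ V) (huA : u ∈ centralizer (A : Set G))
    (huB : u ∉ centralizer (B : Set G)) (hb : b ∈ B)
    (hgen : ∀ K : Subgroup G, centralizer (V : Set G) ≤ K → b ∈ K → A ≤ K → x ∈ K) :
    b * u * b⁻¹ * u⁻¹ ∉ (V ⊓ centralizer (A : Set G)) ⊓ (V ⊓ centralizer (B : Set G)) := by
  intro hZ
  set Z := (V ⊓ centralizer (A : Set G)) ⊓ (V ⊓ centralizer (B : Set G)) with hZdef
  let K : Subgroup G :=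
    { carrier := {g | (∀ z ∈ Z, g * z * g⁻¹ = z) ∧ g * u * g⁻¹ * u⁻¹ ∈ Z}
      one_mem' := ⟨fun z _ => by simp, by simp⟩
      mul_mem' := fun {g h} hg hh => ⟨fun z hz => by
          rw [show g * h * z * (g * h)⁻¹ = g * (h * z * h⁻¹) * g⁻¹ by group, hh.1 z hz, hg.1 z hz], by
        rw [show g * h * u * (g * h)⁻¹ * u⁻¹ =
          g * (h * u * h⁻¹ * u⁻¹) * g⁻¹ * (g * u * g⁻¹ * u⁻¹) by group, hg.1 _ hh.2]
        exact Z.mul_mem hh.2 hg.2⟩
      inv_mem' := fun {g} hg => by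
        have h1 : ∀ z ∈ Z, g⁻¹ * z * g⁻¹⁻¹ = z := fun z hz => by
          calc g⁻¹ * z * g⁻¹⁻¹ = g⁻¹ * (g * z * g⁻¹) * g⁻¹⁻¹ := by rw [hg.1 z hz]
            _ = z := by group
        refine ⟨h1, ?_⟩
        rw [show g⁻¹ * u * g⁻¹⁻¹ * u⁻¹ = g⁻¹ * (g * u * g⁻¹ * u⁻¹)⁻¹ * g⁻¹⁻¹ by group,
          h1 _ (Z.inv_mem hg.2)]
        exact Z.inv_mem hg.2 }
  have hxK : x⁻¹ ∈ K := K.inv_mem (hgen K
    (fun g hg => ⟨fun z hz => by rw [← hg z hz.1.1, mul_inv_cancel_right], by
      rw [← hg u hu]; simp⟩)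
    ⟨fun z hz => by rw [hz.2.2 b hb, mul_inv_cancel_right], hZ⟩
    (fun a ha => ⟨fun z hz => by rw [hz.1.2 a ha, mul_inv_cancel_right], by
      rw [huA a ha]; simp⟩))
  refine huB fun b' hb' => ?_
  have h1 := hxK.2.1.2 _ (hx b' hb')
  have h2 := huA _ (hx b' hb')
  calc b' * u = x * ((x⁻¹ * b' * x) * (x⁻¹ * u * x⁻¹⁻¹ * u⁻¹)) * u * x⁻¹ := by group
    _ = x * (x⁻¹ * u * x⁻¹⁻¹ * u⁻¹) * ((x⁻¹ * b' * x) * u) * x⁻¹ := by rw [h1]; group
    _ = u * b' := by rw [h2]; group

theorem involves_S4_of_offender [Finite G] {V A : Subgroup G} [hVn : V.Normal]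
    (hV : IsElementaryAbelian 2 V) (hA : IsElementaryAbelian 2 A)
    (hab : ∀ T : Subgroup (G ⧸ centralizer (V : Set G)), IsPGroup 2 T →
      T ≤ centralizer (T : Set (G ⧸ centralizer (V : Set G))))
    (hquad : ∀ v ∈ V, ∀ a ∈ A, a * v * a⁻¹ * v⁻¹ ∈ centralizer (A : Set G))
    (hoff : ∀ A0 ≤ A, Nat.card A0 * Nat.card (V ⊓ centralizer (A0 : Set G) : Subgroup G) ≤
      Nat.card A * Nat.card (V ⊓ centralizer (A : Set G) : Subgroup G))
    (hn : ¬ A.map (QuotientGroup.mk' (centralizer (V : Set G))) ≤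
      pCore 2 (G ⧸ centralizer (V : Set G))) : Involves (Equiv.Perm (Fin 4)) G := by
  set f := QuotientGroup.mk' (centralizer (V : Set G)) with hf
  have hker : f.ker = centralizer (V : Set G) := QuotientGroup.ker_mk' _
  obtain ⟨L, x, hxL, hAL, hBL, hnc, hgA, hgB⟩ := exists_minimal_pair hab (H24.EA.map hA f) hn
  obtain ⟨x, rfl⟩ := QuotientGroup.mk'_surjective _ x
  rw [← hf, ← H1.map_conj_smul] at hBL hnc hgA hgB
  rw [← hf] at hxL
  set B := MulAut.conj x • A with hB
  have hBm : ∀ {b : G}, b ∈ B ↔ x⁻¹ * b * x ∈ A := H1.mem_conj_smul_iff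
  have hc : ∀ v ∈ V, ∀ v' ∈ V, v * v' = v' * v := fun v hv v' hv' => H24.EA.comm hV hv hv'
  have hsq : ∀ v ∈ V, v * v = 1 := fun v hv => by rw [← pow_two]; exact hV.2 v hv
  have hact : ∀ g g' : G, f g = f g' → ∀ v ∈ V, g * v * g⁻¹ = g' * v * g'⁻¹ := by
    intro g g' h v hv
    have h1 : g⁻¹ * g' ∈ centralizer (V : Set G) := QuotientGroup.eq.mp h
    calc g * v * g⁻¹ = g * (v * (g⁻¹ * g')) * g'⁻¹ := by group
      _ = g' * v * g'⁻¹ := by rw [h1 v hv]; group
  have hlift : ∀ (K C : Subgroup G) (c : G), centralizer (V : Set G) ≤ K → c ∈ K → C ≤ K →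
      L ≤ zpowers (f c) ⊔ C.map f → ∀ g, f g ∈ L → g ∈ K := by
    intro K C c hK hc hC hL g hg
    have h1 : f g ∈ K.map f :=
      sup_le (zpowers_le.mpr (mem_map_of_mem f hc)) (map_mono hC) (hL hg)
    rwa [← mem_comap, comap_map_eq_self (hker.trans_le hK)] at h1
  obtain ⟨a, ha, hac⟩ : ∃ a ∈ A, f a ∉ centralizer ((B.map f : Subgroup _) : Set _) := by
    by_contra! h
    exact hnc (map_le_iff_le_comap.mpr h)
  have hLAB : L ≤ A.map f ⊔ B.map f :=
    (hgA _ (mem_map_of_mem f ha) hac).trans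
      (sup_le_sup_right (zpowers_le.mpr (mem_map_of_mem f ha)) _)
  set UA := V ⊓ centralizer (A : Set G) with hUA
  set UB := V ⊓ centralizer (B : Set G) with hUB
  have hcard : Nat.card UB = Nat.card UA := by
    have hxV : MulAut.conj x • V = V :=
      H1.mem_normalizer_iff_conj_smul_eq.mp (le_normalizer_of_normal (mem_top x))
    rw [hUB, hB, H1.centralizer_conj_smul, ← H1.card_conj_smul x UA, hUA, smul_inf, hxV]
  have hquadB : ∀ v ∈ V, ∀ b ∈ B, b * v * b⁻¹ * v⁻¹ ∈ centralizer (B : Set G) := by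
    intro v hv b hb
    rw [hB, H1.centralizer_conj_smul, H1.mem_conj_smul_iff]
    convert hquad _ (hVn.conj_mem' v hv x) _ (hBm.mp hb) using 1
    group
  have hmemV : ∀ v ∈ V, ∀ g : G, g * v * g⁻¹ * v⁻¹ ∈ V := fun v hv g =>
    V.mul_mem (hVn.conj_mem v hv g) (V.inv_mem hv)
  -- Step 1
  obtain ⟨w, hw, hwA⟩ : ∃ w ∈ UB, w ∉ centralizer (A : Set G) := by
    by_contra! h
    have heq : UB = UA := eq_of_le_of_card_ge (fun w hw => ⟨hw.1, h w hw⟩) hcard.ge
    refine hac ?_
    rintro _ ⟨b, hb, rfl⟩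
    rw [← map_mul, ← map_mul, hf, QuotientGroup.mk'_apply, QuotientGroup.mk'_apply,
      QuotientGroup.eq]
    intro v hv
    have h1 : a * v * a⁻¹ * v⁻¹ ∈ UB := heq ▸ ⟨hmemV v hv a, hquad v hv a ha⟩
    have h2 : b * v * b⁻¹ * v⁻¹ ∈ UA := heq ▸ ⟨hmemV v hv b, hquadB v hv b hb⟩
    have h3 := h1.2 b hb
    have h4 := h2.2 a ha
    have h5 := hc _ h1.1 _ h2.1
    have h6 : b * a * v * (b * a)⁻¹ = a * b * v * (a * b)⁻¹ := by
      calc b * a * v * (b * a)⁻¹ = (b * (a * v * a⁻¹ * v⁻¹)) * v * b⁻¹ := by group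
        _ = ((a * v * a⁻¹ * v⁻¹) * (b * v * b⁻¹ * v⁻¹)) * v := by rw [h3]; group
        _ = ((b * v * b⁻¹ * v⁻¹) * a) * v * a⁻¹ := by rw [h5]; group
        _ = a * b * v * (a * b)⁻¹ := by rw [← h4]; group
    calc v * ((b * a)⁻¹ * (a * b)) = (b * a)⁻¹ * (b * a * v * (b * a)⁻¹) * (a * b) := by group
      _ = (b * a)⁻¹ * (a * b) * v := by rw [h6]; group
  -- Step 2
  set u := a * w * a⁻¹ * w⁻¹ with hu
  have huA : u ∈ UA := ⟨hmemV w hw.1 a, hquad w hw.1 a ha⟩
  have huZ : u ∉ UB ⊓ UA := conj_mul_inv_not_mem (x := x⁻¹)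
    (fun a ha => hBm.mpr (by simpa [mul_assoc] using ha)) hw.1 hw.2 hwA ha
    fun K hK haK hBK => hlift K B a hK haK hBK (hgA _ (mem_map_of_mem f ha) hac) _
      (by rw [map_inv]; exact L.inv_mem hxL)
  have huB : u ∉ centralizer (B : Set G) := fun h => huZ ⟨⟨huA.1, h⟩, huA⟩
  -- Step 3
  set Z := UA ⊓ UB with hZ
  let φ : B →* G := MonoidHom.mk' (fun b => (b : G) * u * (b : G)⁻¹ * u⁻¹) fun b b' => by
    have h1 := hquadB u huA.1 b' b'.2 b b.2
    have h2 := hc _ (hmemV u huA.1 b) _ (hmemV u huA.1 b')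
    rw [h2]
    calc ((b * b' : B) : G) * u * ((b * b' : B) : G)⁻¹ * u⁻¹
        = ((b : G) * (b' * u * (b' : G)⁻¹ * u⁻¹)) * u * (b : G)⁻¹ * u⁻¹ := by
          rw [coe_mul]; group
      _ = _ := by rw [h1]; group
  have hR : φ.range ≤ UB := by
    rintro _ ⟨b, rfl⟩
    exact ⟨hmemV u huA.1 b, hquadB u huA.1 b b.2⟩
  set A0 := A ⊓ (centralizer ((B.map f : Subgroup _) : Set _)).comap f with hA0
  have hcL : ∀ g : G, f g ∈ centralizer ((A.map f : Subgroup _) : Set _) →
      f g ∈ centralizer ((B.map f : Subgroup _) : Set _) → f x * f g = f g * f x := by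
    intro g h1 h2
    have : f g ∈ centralizer ((A.map f ⊔ B.map f : Subgroup _) : Set _) := by
      rw [H24.centralizer_sup]; exact ⟨h1, h2⟩
    exact this _ (hLAB hxL)
  have hBea : IsElementaryAbelian 2 B := H24.EA.map hA _
  have h1 : Nat.card (Z.comap φ) ≤ Nat.card A0 := by
    rw [← H24.card_map_subtype, ← H1.card_conj_smul x A0]
    refine card_le_of_le ?_
    rintro _ ⟨b, hb, rfl⟩
    rw [H1.mem_conj_smul_iff]
    have hbc : f b ∈ centralizer ((A.map f : Subgroup _) : Set _) := by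
      by_contra hbc
      exact conj_mul_inv_not_mem (fun b hb => hBm.mp hb) huA.1 huA.2 huB b.2
        (fun K hK hbK hAK => hlift K A b hK hbK hAK (hgB _ (mem_map_of_mem f b.2) hbc) _ hxL) hb
    have hbc' : f b ∈ centralizer ((B.map f : Subgroup _) : Set _) :=
      H24.EA.le_centralizer (H24.EA.map hBea f) (mem_map_of_mem f b.2)
    refine ⟨hBm.mp b.2, ?_⟩
    change f (x⁻¹ * b * x) ∈ centralizer _
    rw [map_mul, map_mul, map_inv, mul_assoc, ← hcL b hbc hbc', inv_mul_cancel_left]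
    exact hbc'
  have h2 : UA ⊔ UB ≤ V ⊓ centralizer (A0 : Set G) := by
    refine sup_le (inf_le_inf_left _ (H24.centralizer_anti inf_le_left)) fun v hv => ⟨hv.1, ?_⟩
    intro a0 ha0
    have h3 := hcL a0 (H24.EA.le_centralizer (H24.EA.map hA f) (mem_map_of_mem f ha0.1)) ha0.2
    have h4 := hact a0 (x * a0 * x⁻¹) (by
      rw [map_mul, map_mul, h3, map_inv, mul_inv_cancel_right]) v hv.1
    rw [hv.2 (x * a0 * x⁻¹) (H1.conj_mem_conj_smul ha0.1), mul_inv_cancel_right] at h4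
    exact mul_inv_eq_iff_eq_mul.mp h4
  have hVc : ∀ X Y : Subgroup G, X ≤ V → Y ≤ V → X ≤ normalizer (Y : Set G) := fun X Y hX hY =>
    le_trans (show X ≤ centralizer (Y : Set G) from fun v hv y hy => hc y (hY hy) v (hX hv))
      (centralizer_le_normalizer _)
  have h3 := H24.card_sup_mul_card_inf (hVc UA UB inf_le_left inf_le_left)
  have h4 := card_le_of_le h2
  have h5 := hoff A0 inf_le_left
  have h6 := H24.card_sup_mul_card_inf
    (hVc φ.range Z (hR.trans inf_le_left) (inf_le_left.trans inf_le_left))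
  have h7 := H1.card_comap_eq φ Z
  have h8 : Nat.card φ.ker * Nat.card φ.range = Nat.card A := by
    rw [← H1.card_conj_smul x A, ← index_ker, card_mul_index]
  have h9 : φ.range ⊔ Z = UB := by
    refine eq_of_le_of_card_ge (sup_le hR inf_le_right) ?_
    rw [← hZ] at h3
    have p1 : 0 < Nat.card UA := Nat.card_pos
    have p2 : 0 < Nat.card A0 := Nat.card_pos
    have e1 : Nat.card UA * (Nat.card UB * Nat.card A0) ≤
        Nat.card UA * (Nat.card A * Nat.card Z) := by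
      calc Nat.card UA * (Nat.card UB * Nat.card A0)
          = Nat.card (UA ⊔ UB : Subgroup G) * Nat.card Z * Nat.card A0 := by rw [h3]; ring
        _ ≤ Nat.card (V ⊓ centralizer (A0 : Set G) : Subgroup G) * Nat.card Z * Nat.card A0 := by
            gcongr
        _ = Nat.card A0 * Nat.card (V ⊓ centralizer (A0 : Set G) : Subgroup G) * Nat.card Z := by
            ring
        _ ≤ Nat.card A * Nat.card UA * Nat.card Z := by gcongr
        _ = _ := by ring
    have e2 := Nat.le_of_mul_le_mul_left e1 p1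
    have e3 : Nat.card A * Nat.card Z ≤ Nat.card (φ.range ⊔ Z : Subgroup G) * Nat.card A0 := by
      calc Nat.card A * Nat.card Z = Nat.card φ.ker * (Nat.card φ.range * Nat.card Z) := by
            rw [← h8]; ring
        _ = Nat.card (φ.range ⊔ Z : Subgroup G) * Nat.card (Z.comap φ) := by rw [← h6, h7]; ring
        _ ≤ _ := by gcongr
    exact Nat.le_of_mul_le_mul_right (e2.trans e3) p2
  have hw' : w ∈ Z ⊔ φ.range := by rw [sup_comm, h9]; exact hw
  obtain ⟨z, hz, _, ⟨b, rfl⟩, hzb⟩ := (H24.mem_sup_of_le_normalizer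
    (hVc Z φ.range (inf_le_left.trans inf_le_left) (hR.trans inf_le_left))).mp hw'
  refine involves_S4 (Z := Z) (a := a) (b := b) (u := u) (w := w) (z := z⁻¹) hV
    (inf_le_left.trans inf_le_left) (by rw [← pow_two]; exact hA.2 a ha)
    (by rw [← pow_two]; exact hBea.2 b b.2) huA.1 hw.1 (Z.inv_mem hz)
    (fun y hy => (hy.1.2 a ha).symm) (fun y hy => (hy.2.2 b b.2).symm)
    (by rw [huA.2 a ha, mul_inv_cancel_right]) (by rw [hu]; group)
    (by rw [hw.2 b b.2, mul_inv_cancel_right]) ?_ (fun h => huB h.2.2) (fun h => hwA h.1.2)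
  rw [hc u huA.1 w hw.1, ← hzb]
  change _ = z⁻¹ * (z * ((b : G) * u * (b : G)⁻¹ * u⁻¹) * u)
  group

/-- In an `S₄`-free group of characteristic two with Sylow subgroups of class at most two, the
Thompson subgroup lies in `O₂`. -/
theorem thompson_le_pCore_of_class_two [Finite G]
    (hc : centralizer (pCore 2 G : Set G) ≤ pCore 2 G) (hS4 : ¬ Involves (Equiv.Perm (Fin 4)) G)
    (S : Sylow 2 G) (hcl : ⁅⁅(S : Subgroup G), (S : Subgroup G)⁆, (S : Subgroup G)⁆ = ⊥) :
    thompsonSubgroupOf 2 (S : Subgroup G) ≤ pCore 2 G := by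
  set Q := pCore 2 G with hQ
  have hQS : Q ≤ S := H1.pCore_le_sylow S
  have hSS : ⁅(S : Subgroup G), (S : Subgroup G)⁆ ≤ centralizer ((S : Subgroup G) : Set G) :=
    commutator_eq_bot_iff_le_centralizer.mp hcl
  set ZQ := Q ⊓ centralizer (Q : Set G) with hZQ
  set V := omegaOne 2 ZQ with hVdef
  have hV : IsElementaryAbelian 2 V := H24.omegaOne_center_isElementaryAbelian Q
  have hVn : V.Normal := H24.omegaOne_normal ZQ
  have hVS : V ≤ S := (H24.omegaOne_le _).trans (inf_le_left.trans hQS)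
  rw [H24.thompsonSubgroupOf_le_iff]
  intro A hA
  obtain ⟨hAS, hAe, hAm⟩ := H24.mem_maxEA.mp hA
  by_contra hAQ
  refine hS4 (involves_S4_of_offender hV hAe ?_ ?_ ?_ ?_)
  · intro T hT
    obtain ⟨T', hT'⟩ := hT.exists_le_sylow
    obtain ⟨g, rfl⟩ := MulAction.exists_smul_eq (G ⧸ centralizer (V : Set G))
      (S.mapSurjective (QuotientGroup.mk'_surjective (centralizer (V : Set G)))) T'
    refine hT'.trans (le_trans ?_ (H24.centralizer_anti hT'))
    rw [Sylow.coe_subgroup_smul, H1.centralizer_conj_smul, pointwise_smul_le_pointwise_smul_iff]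
    rintro _ ⟨a, ha, rfl⟩ _ ⟨b, hb, rfl⟩
    rw [← map_mul, ← map_mul, QuotientGroup.mk'_apply, QuotientGroup.mk'_apply, QuotientGroup.eq]
    refine H24.centralizer_anti hVS (hSS ?_)
    have := commutator_mem_commutator (inv_mem ha) (inv_mem hb)
    convert this using 1
    rw [commutatorElement_def]; group
  · intro v hv a ha
    exact H24.centralizer_anti hAS (hSS (commutator_mem_commutator (hAS ha) (hVS hv)))
  · intro A0 hA0
    have h1 : A0 ≤ centralizer ((V ⊓ centralizer (A0 : Set G) : Subgroup G) : Set G) :=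
      le_centralizer_iff.mp inf_le_right
    rw [← H24.card_sup_mul_card_inf (h1.trans (centralizer_le_normalizer _))]
    refine Nat.mul_le_mul (hAm _ (sup_le (hA0.trans hAS) (inf_le_left.trans hVS))
      (H24.EA.sup (H24.EA.mono hAe hA0) (H24.EA.mono hV inf_le_left) h1)) (card_le_of_le ?_)
    exact fun y hy => ⟨hy.2.1, H24.EA.le_centralizer hAe (hA0 hy.1)⟩
  · intro h
    apply hAQ
    set N1 := (centralizer ((Q.map (QuotientGroup.mk' ZQ) : Subgroup _) : Set (G ⧸ ZQ))).comap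
      (QuotientGroup.mk' ZQ) with hN1
    have hN1m : ∀ g : G, g ∈ N1 ↔ ∀ q ∈ Q, q * g * q⁻¹ * g⁻¹ ∈ ZQ := by
      intro g
      rw [hN1, mem_comap, mem_centralizer_iff]
      have e : ∀ q : G, QuotientGroup.mk' ZQ q * QuotientGroup.mk' ZQ g =
          QuotientGroup.mk' ZQ g * QuotientGroup.mk' ZQ q ↔ q * g * q⁻¹ * g⁻¹ ∈ ZQ := fun q => by
        rw [← QuotientGroup.eq_one_iff, ← QuotientGroup.mk'_apply ZQ, map_mul, map_mul, map_mul,
          map_inv, map_inv, mul_inv_eq_one, mul_inv_eq_iff_eq_mul]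
      constructor
      · intro h q hq
        exact (e q).mp (h _ ⟨q, hq, rfl⟩)
      · rintro h _ ⟨q, hq, rfl⟩
        exact (e q).mpr (h q hq)
    have hn1 : (Q.map (QuotientGroup.mk' ZQ)).Normal :=
      Normal.map inferInstance _ (QuotientGroup.mk'_surjective _)
    set D := (pCore 2 (G ⧸ centralizer (V : Set G))).comap
      (QuotientGroup.mk' (centralizer (V : Set G))) ⊓ N1 with hD
    have hAD : A ≤ D := le_inf (map_le_iff_le_comap.mp h) fun a ha => (hN1m a).mpr fun q hq => by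
      have h1 := H24.centralizer_anti hQS (hSS (commutator_mem_commutator (hQS hq) (hAS ha)))
      exact ⟨hc h1, h1⟩
    refine hAD.trans (H1.le_pCore (H70.isPGroup_of_forall_coprime fun g hg hgo => ?_))
    obtain ⟨k, hk⟩ := H24.pow_mem_of_mem_comap_pCore hg.1
    have hgV : g ∈ centralizer (V : Set G) := by
      obtain ⟨j, hj⟩ := exists_pow_eq_self_of_coprime (x := g) (hgo.symm.pow_left k)
      rw [← hj]; exact pow_mem hk j
    have hZp : IsPGroup 2 ZQ := H1.isPGroup_pCore.to_le inf_le_left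
    have hgZ : zpowers g ≤ centralizer (ZQ : Set G) :=
      H2.le_centralizer_of_prime_order (H24.isMulCommutative_inf_centralizer Q)
        le_normalizer_of_normal
        (by rw [Nat.card_zpowers]; exact (H1.coprime_card_of_isPGroup_of_coprime hZp hgo).symm)
        fun v hv hvp => by
          have h2 : orderOf v = 2 := by
            obtain ⟨n, hn⟩ := hZp ⟨v, hv⟩
            exact (Nat.prime_dvd_prime_iff_eq hvp Nat.prime_two).mp
              (hvp.dvd_of_dvd_pow (orderOf_dvd_of_pow_eq_one (congrArg Subtype.val hn)))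
          exact le_centralizer_iff.mp (zpowers_le.mpr hgV)
            (H24.mem_omegaOne hv (by rw [← h2, pow_orderOf_eq_one]))
    have h3 := H70.le_centralizer_of_commutator_mem hZp hgo
      (H70.le_centralizer_singleton_iff.mpr (hgZ (mem_zpowers g))) ((hN1m g).mp hg.2)
    exact H70.eq_one_of_mem_isPGroup H1.isPGroup_pCore
      (hc (H70.le_centralizer_singleton_iff.mp h3)) hgo

/-- Thompson factorization for `S₄`-free `2`-constrained groups with Sylow class at most two. -/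
theorem normalizer_thompson_sup_of_class_two [Finite G] (hcon : IsPConstrained 2 G)
    (hS4 : ¬ Involves (Equiv.Perm (Fin 4)) G) (S : Sylow 2 G)
    (hcl : ⁅⁅(S : Subgroup G), (S : Subgroup G)⁆, (S : Subgroup G)⁆ = ⊥) :
    normalizer ((thompsonSubgroupOf 2 (S : Subgroup G)) : Set G) ⊔ pPrimeCore 2 G = ⊤ := by
  rw [sup_comm]
  refine H25.ZJ.sup_normalizer_eq_top_of_map_normal H1.coprime_card_pPrimeCore
    (S.isPGroup'.to_le (H24.thompsonSubgroupOf_le _)) ?_
  rw [H24.map_thompsonSubgroupOf_of_disjoint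
    (H24.ker_mk'_inf_eq_bot H1.coprime_card_pPrimeCore S.isPGroup')]
  let T := S.mapSurjective (QuotientGroup.mk'_surjective (pPrimeCore 2 G))
  have h := thompson_le_pCore_of_class_two (H23.isPConstrained_iff.mp hcon)
    (fun h => hS4 (H57.involves_trans h (H57.involves_quotient _))) T (by
      change ⁅⁅(S : Subgroup G).map _, (S : Subgroup G).map _⁆, (S : Subgroup G).map _⁆ = ⊥
      rw [← map_commutator, ← map_commutator, hcl, Subgroup.map_bot])
  change (thompsonSubgroupOf 2 (T : Subgroup (G ⧸ pPrimeCore 2 G))).Normal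
  rw [← H24.thompsonSubgroupOf_eq_of_le h (H1.pCore_le_sylow T)]
  exact H24.thompsonSubgroupOf_normal _

end H58
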