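import Mathlib
import Cfsg.Agent.Base

/-! The relative norm (transfer) map on fixed points of an action on an abelian group (helper58). -/

set_option autoImplicit false

namespace H58

section Norm

variable {L : Type*} [Group L] {M : Type*} [CommGroup M] [MulDistribMulAction L M]

/-- The relative norm: product of the translates of `c` by coset representatives of `T`. -/
noncomputable def relNorm (T : Subgroup L) [Finite (L ⧸ T)] : M →* M :=
  haveI := Fintype.ofFinite (L ⧸ T)
  { toFun := fun c => ∏ q : L ⧸ T, q.out • c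
    map_one' := by simp
    map_mul' := fun a b => by simp [smul_mul', Finset.prod_mul_distrib] }

theorem relNorm_fixed (T : Subgroup L) [Finite (L ⧸ T)] {c : M} (hc : ∀ t ∈ T, t • c = c) (l : L) :
    l • relNorm T c = relNorm T c := by
  let _ := Fintype.ofFinite (L ⧸ T)
  change l • (∏ q : L ⧸ T, q.out • c) = ∏ q : L ⧸ T, q.out • c
  rw [Finset.smul_prod']
  refine Fintype.prod_equiv (MulAction.toPerm l) _ _ fun q => ?_
  have h1 : (QuotientGroup.mk (l * q.out) : L ⧸ T) = QuotientGroup.mk (l • q).out := by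
    rw [QuotientGroup.out_eq', ← smul_eq_mul, ← MulAction.Quotient.smul_mk, QuotientGroup.out_eq']
  have h2 := QuotientGroup.eq.mp h1
  have h3 : (l • q).out = (l * q.out) * ((l * q.out)⁻¹ * (l • q).out) := by group
  change l • q.out • c = (l • q).out • c
  rw [h3, mul_smul, hc _ h2, mul_smul]

theorem relNorm_mul_inv_mem (T : Subgroup L) [Finite (L ⧸ T)] (N : Subgroup M) {c : M}
    (hc : ∀ l : L, l • c * c⁻¹ ∈ N) : relNorm T c * (c ^ T.index)⁻¹ ∈ N := by
  let _ := Fintype.ofFinite (L ⧸ T)
  change (∏ q : L ⧸ T, q.out • c) * (c ^ T.index)⁻¹ ∈ N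
  have : c ^ T.index = ∏ _q : L ⧸ T, c := by
    rw [Finset.prod_const, Finset.card_univ, Subgroup.index, Nat.card_eq_fintype_card]
  rw [this, ← Finset.prod_inv_distrib, ← Finset.prod_mul_distrib]
  exact N.prod_mem fun q _ => hc _

theorem relNorm_of_fixed (T : Subgroup L) [Finite (L ⧸ T)] {c : M} (hc : ∀ l : L, l • c = c) :
    relNorm T c = c ^ T.index := by
  have := relNorm_mul_inv_mem T ⊥ (c := c) fun l => by rw [hc l]; simp
  rwa [Subgroup.mem_bot, mul_inv_eq_one] at this

theorem relNorm_mem (T : Subgroup L) [Finite (L ⧸ T)] (N : Subgroup M) {c : M}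
    (hc : ∀ l : L, l • c ∈ N) : relNorm T c ∈ N := by
  let _ := Fintype.ofFinite (L ⧸ T)
  change (∏ q : L ⧸ T, q.out • c) ∈ N
  exact N.prod_mem fun q _ => hc _

end Norm

/-- In a `p`-group raising to a power prime to `p` can be undone. -/
theorem exists_pow_pow_eq_of_isPGroup {Q : Type*} [Group Q] {p : ℕ} (hQ : IsPGroup p Q) {k : ℕ}
    (hk : k.Coprime p) (x : Q) : ∃ j : ℕ, (x ^ k) ^ j = x := by
  obtain ⟨a, ha⟩ := hQ x
  have hc : k.Coprime (orderOf x) :=
    Nat.Coprime.coprime_dvd_right (orderOf_dvd_of_pow_eq_one ha) (hk.pow_right a)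
  exact exists_pow_eq_self_of_coprime hc

end H58
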