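import Mathlib
import Cfsg.Agent.Lib.PGroup.TwoCyclic

/-! A normal subgroup `T` of a `2`-group `G` containing no non-cyclic abelian normal subgroup
of `G` has a cyclic subgroup of index at most two (relative form of a theorem in `H5`). -/

set_option autoImplicit false

namespace H58

open Subgroup H5
open scoped commutatorElement

variable {G : Type*} [Group G]

theorem exists_rel_cyclic [Finite G] (hG : IsPGroup 2 G) (T : Subgroup G) [T.Normal]
    (hn : ∀ A : Subgroup G, A.Normal → A ≤ T → IsMulCommutative A → IsCyclic A) :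
    ∃ a ∈ T, (zpowers a).Normal ∧ (T ≤ zpowers a ∨ ∃ m : ℕ, orderOf a = 2 ^ (m + 1) ∧ 1 ≤ m ∧
      (zpowers a).relIndex T = 2 ∧ ∀ x ∈ T, x ∉ zpowers a →
        (x * a * x⁻¹ = a⁻¹ ∨ (2 ≤ m ∧ x * a * x⁻¹ = a⁻¹ * a ^ 2 ^ m))) := by
  have := hG.isNilpotent
  obtain ⟨A, -, ⟨hAn, hAT, hAc⟩, hmax⟩ := Finite.exists_le_maximal
    (p := fun B : Subgroup G => B.Normal ∧ B ≤ T ∧ IsMulCommutative B) (a := ⊥)
    ⟨inferInstance, bot_le, inferInstance⟩
  have hC : T ⊓ centralizer (A : Set G) ≤ A := by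
    by_contra h
    obtain ⟨x, hx, hxA, hc⟩ := exists_central_mod_of_nilpotent A (T ⊓ centralizer (A : Set G)) h
    exact hxA (hmax ⟨normal_sup_zpowers hc, sup_le hAT (zpowers_le.2 hx.1),
      isMulCommutative_sup_zpowers hAc hx.2⟩ le_sup_left (mem_sup_right (mem_zpowers x)))
  obtain ⟨a, rfl⟩ := exists_zpowers_eq (hn A hAn hAT hAc)
  have haT : a ∈ T := hAT (mem_zpowers a)
  refine ⟨a, haT, hAn, ?_⟩
  by_cases htop : T ≤ zpowers a
  · exact Or.inl htop
  right
  have hcent : ∀ x ∈ T, Commute x a → x ∈ zpowers a := fun x hxT hx => by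
    refine hC ⟨hxT, ?_⟩
    rintro _ ⟨i, rfl⟩
    exact (hx.symm.zpow_left i).eq
  have hconj : ∀ x, x * a * x⁻¹ ∈ zpowers a := fun x => hAn.conj_mem a (mem_zpowers a) x
  obtain ⟨e, he⟩ := (IsPGroup.iff_orderOf.1 hG) a
  obtain ⟨m, rfl⟩ : ∃ m, e = m + 1 := by
    rcases e with _ | m
    · exfalso
      obtain rfl : a = 1 := by simpa using he
      exact htop fun x hx => hcent x hx (Commute.one_right x)
    · exact ⟨m, rfl⟩
  have hz : ∀ g, g * a ^ 2 ^ m * g⁻¹ = a ^ 2 ^ m := fun g => conj_half he (hconj g)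
  have hzc : ∀ g, Commute g (a ^ 2 ^ m) := fun g => by
    rw [Commute, SemiconjBy]; conv_rhs => rw [← hz g]
    group
  have hZn : (zpowers (a ^ 2 ^ m)).Normal := H83.normal_of_le_center (by
    rw [zpowers_le, mem_center_iff]; exact fun g => (hzc g).eq)
  have hcomm : ∀ x : G, ∀ y ∈ T, ⁅x, y⁆ ∈ zpowers a := fun x y hyT => hcent _
    (commutator_le_right ⊤ T (commutator_mem_commutator (mem_top x) hyT)) (by
    obtain ⟨k, hk⟩ := hconj x
    obtain ⟨l, hl⟩ := hconj y
    simp only at hk hl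
    have h1 : (x * y) * a * (x * y)⁻¹ = (y * x) * a * (y * x)⁻¹ := by
      calc (x * y) * a * (x * y)⁻¹ = x * (y * a * y⁻¹) * x⁻¹ := by group
        _ = (a ^ k) ^ l := by rw [← hl, ← conj_zpow, hk]
        _ = (a ^ l) ^ k := by rw [← zpow_mul, mul_comm, zpow_mul]
        _ = y * (x * a * x⁻¹) * y⁻¹ := by rw [← hk, ← conj_zpow, hl]
        _ = _ := by group
    obtain ⟨j, hj⟩ := hconj (y * x)⁻¹
    simp only [inv_inv] at hj
    have h2 : a = ((y * x) * a * (y * x)⁻¹) ^ j := by rw [conj_zpow, hj]; group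
    have h3 : (x * y) * a ^ j * (x * y)⁻¹ = a := by rw [← conj_zpow, h1, ← h2]
    rw [Commute, SemiconjBy, commutatorElement_def]
    conv_rhs => rw [← h3, hj]
    group)
  -- no normal four-subgroup
  have hfour : ∀ b ∈ T, b ∉ zpowers a → b * b = 1 → ¬ ∀ g, ⁅b, g⁆ ∈ zpowers (a ^ 2 ^ m) := by
    intro b hbT hb hb2 h
    refine not_isCyclic_of_two_invol (V := zpowers (a ^ 2 ^ m) ⊔ zpowers b)
      (mem_sup_left (mem_zpowers _)) (mem_sup_right (mem_zpowers _)) (half_ne_one he)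
      (by rintro rfl; exact hb (one_mem _)) (by rintro rfl; exact hb (pow_mem (mem_zpowers a) _))
      (half_mul_self he) hb2 (hn _ (normal_sup_zpowers h)
        (sup_le (zpowers_le.2 (pow_mem haT _)) (zpowers_le.2 hbT)) (isMulCommutative_sup_zpowers
        inferInstance ?_))
    rw [mem_centralizer_iff]
    rintro _ ⟨i, rfl⟩
    exact ((hzc b).symm.zpow_left i).eq
  have hmod : ∀ b ∈ T, b ∉ zpowers a → 2 ≤ m → b * b = 1 → b * a * b⁻¹ ≠ a * a ^ 2 ^ m := by
    intro b hbT hb hm hb2 hba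
    refine hfour b hbT hb hb2 fun g => ?_
    obtain ⟨t, ht⟩ := hcomm g b hbT
    simp only at ht
    have h1 : a ^ t * b = g * b * g⁻¹ := by rw [ht, commutatorElement_def]; group
    have h2 := sq_zpow_mul_of_modular he hba t
    rw [h1, conj_mul, hb2, mul_one, mul_inv_cancel, mul_one] at h2
    have h3 : a ^ t * a ^ t = 1 := by
      rcases H83.zpow_eq_one_or_self (half_mul_self he) t with h | h
      · rw [h.2, mul_one, two_mul, zpow_add] at h2; exact h2.symm
      · exfalso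
        rw [h.2, ← zpow_natCast, ← zpow_add, eq_comm, zpow_eq_one_iff_dvd he] at h2
        obtain ⟨m, rfl⟩ : ∃ k, m = k + 2 := ⟨m - 2, by omega⟩
        obtain ⟨c, hc⟩ := h2
        obtain ⟨i, rfl⟩ := h.1
        push_cast at hc
        have : (4 : ℤ) * (i + 2 ^ m - 2 ^ (m + 1) * c) + 2 = 0 := by linear_combination hc
        omega
    rw [← commutatorElement_inv, ← ht, inv_mem_iff]
    rcases eq_one_or_half he (zpow_mem (mem_zpowers a) t) h3 with h | h <;> rw [h]
    exacts [one_mem _, mem_zpowers _]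
  -- every element of order two modulo `⟨a⟩` inverts `a` modulo `z`
  have hinv : ∀ x ∈ T, x ∉ zpowers a → x * x ∈ zpowers a →
      1 ≤ m ∧ (x * a * x⁻¹ = a⁻¹ ∨ (2 ≤ m ∧ x * a * x⁻¹ = a⁻¹ * a ^ 2 ^ m)) := by
    intro x hxT hx hx2
    obtain ⟨hm, t, ht⟩ := cyclic_ext_cases he (hconj x) hx2 fun h => hx (hcent x hxT h)
    have hb : a ^ t * x ∉ zpowers a := by
      rwa [mul_mem_cancel_left (zpow_mem (mem_zpowers a) t)]
    have hback : ∀ c : G, Commute a c → (a ^ t * x) * a * (a ^ t * x)⁻¹ = c →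
        x * a * x⁻¹ = c := fun c hc h => by
      calc x * a * x⁻¹ = (a ^ t)⁻¹ * ((a ^ t * x) * a * (a ^ t * x)⁻¹) * a ^ t := by group
        _ = c := by rw [h, mul_assoc, ← (hc.zpow_left t).eq]; group
    refine ⟨hm, ?_⟩
    rcases ht _ rfl with h | h | h | h
    · exact Or.inl (hback _ (Commute.refl a).inv_right h.2)
    · exact Or.inl (hback _ (Commute.refl a).inv_right h.2)
    · exact absurd h.2.2 (hmod _ (mul_mem (zpow_mem haT t) hxT) hb h.1 h.2.1)
    · exact Or.inr ⟨h.1, hback _ ((Commute.refl a).inv_right.mul_right (hzc a)) h.2.2⟩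
  have hsq : ∀ y ∈ T, y * y ∈ zpowers a := by
    intro y hyT
    by_contra hy
    obtain ⟨k, hk⟩ := hG (y * y)
    obtain ⟨j, h1, h2⟩ := exists_pow_not_mem_pow_mem (p := 2) hy (k := k) (hk ▸ one_mem _)
    set w := y ^ 2 ^ j with hw
    have hw2 : (y * y) ^ 2 ^ j = w * w := by rw [hw, (Commute.refl y).mul_pow]
    rw [hw2] at h1 h2
    rw [pow_two] at h2
    obtain ⟨l, hl⟩ := hconj w
    simp only at hl
    have h3 : (w * w) * a * (w * w)⁻¹ = a ^ (l * l) := by
      calc (w * w) * a * (w * w)⁻¹ = w * (w * a * w⁻¹) * w⁻¹ := by group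
        _ = _ := by rw [← hl, ← conj_zpow, ← hl, zpow_mul]
    obtain ⟨hm, h4⟩ := hinv _ (mul_mem (pow_mem hyT _) (pow_mem hyT _)) h1 h2
    have h5 : a ^ (l * l) * a ^ (l * l) = a⁻¹ * a⁻¹ := by
      rcases h4 with h | h
      · rw [← h3, h]
      · rw [← h3, h.2, mul_assoc, ← mul_assoc (a ^ 2 ^ m), ← (hzc a⁻¹).eq, mul_assoc,
          half_mul_self he, mul_one]
    have h6 : a ^ (2 * (l * l + 1)) = 1 := by
      rw [show 2 * (l * l + 1) = l * l + l * l + 2 by ring, zpow_add, zpow_add, h5]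
      group
    rw [zpow_eq_one_iff_dvd he, pow_succ'] at h6
    have h7 : (2 : ℤ) ^ m ∣ l * l + 1 := Int.dvd_of_mul_dvd_mul_left (by norm_num) h6
    have hl2 : Odd l := by
      by_contra hk
      obtain ⟨i, rfl⟩ := Int.not_odd_iff_even.1 hk
      have : (2 : ℤ) ∣ (i + i) * (i + i) + 1 := (dvd_pow_self 2 (by omega)).trans h7
      have h2 : (i + i) * (i + i) + 1 = 2 * (2 * i * i) + 1 := by ring
      omega
    obtain ⟨i, rfl⟩ := hl2
    have hm1 : m = 1 := by
      by_contra hm2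
      have : (2 : ℤ) ^ 2 ∣ (2 * i + 1) * (2 * i + 1) + 1 :=
        (pow_dvd_pow 2 (by omega)).trans h7
      have h2 : (2 * i + 1) * (2 * i + 1) + 1 = 4 * (i * i + i) + 2 := by ring
      omega
    subst hm1
    refine h1 (hcent _ (mul_mem (pow_mem hyT _) (pow_mem hyT _)) ?_)
    have h8 : a ^ ((2 * i + 1) * (2 * i + 1)) = a := by
      rw [← mul_inv_eq_one, ← zpow_sub_one, zpow_eq_one_iff_dvd he]
      exact ⟨i * i + i, by ring⟩
    rw [h8] at h3
    rw [Commute, SemiconjBy]; conv_rhs => rw [← h3]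
    group
  obtain ⟨x, hxT, hx⟩ := SetLike.not_le_iff_exists.1 htop
  have hidx : (zpowers a).relIndex T = 2 := by
    refine relIndex_eq_two_iff_exists_notMem_and.2 ⟨x, hxT, hx, fun y hyT => ?_⟩
    by_contra hy
    push Not at hy
    obtain ⟨hm, h1⟩ := hinv x hxT hx (hsq x hxT)
    obtain ⟨-, h2⟩ := hinv y hyT hy.2 (hsq y hyT)
    obtain ⟨-, h3⟩ := hinv (y * x) (mul_mem hyT hxT) hy.1 (hsq _ (mul_mem hyT hxT))
    have h4 : (y * x) * (a * a) * (y * x)⁻¹ = a * a := by
      have key : ∀ u : G, (u * a * u⁻¹ = a⁻¹ ∨ (2 ≤ m ∧ u * a * u⁻¹ = a⁻¹ * a ^ 2 ^ m)) →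
          u * (a * a) * u⁻¹ = (a * a)⁻¹ := by
        rintro u (h | h)
        · rw [← conj_mul, h, mul_inv_rev]
        · rw [← conj_mul, h.2, mul_assoc, ← mul_assoc (a ^ 2 ^ m), ← (hzc a⁻¹).eq, mul_assoc,
            half_mul_self he, mul_one, mul_inv_rev]
      calc (y * x) * (a * a) * (y * x)⁻¹ = y * (x * (a * a) * x⁻¹) * y⁻¹ := by group
        _ = (y * (a * a) * y⁻¹)⁻¹ := by rw [key x h1]; group
        _ = a * a := by rw [key y h2, inv_inv]
    have h5 : (y * x) * (a * a) * (y * x)⁻¹ = (a * a)⁻¹ := by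
      rcases h3 with h | h
      · rw [← conj_mul, h, mul_inv_rev]
      · rw [← conj_mul, h.2, mul_assoc, ← mul_assoc (a ^ 2 ^ m), ← (hzc a⁻¹).eq, mul_assoc,
          half_mul_self he, mul_one, mul_inv_rev]
    have h6 : a ^ (4 : ℤ) = 1 := by
      have := h4.symm.trans h5
      rw [eq_inv_iff_mul_eq_one] at this
      rw [← this, show (4 : ℤ) = 1 + 1 + (1 + 1) by norm_num]
      simp only [zpow_add, zpow_one]
    rw [zpow_eq_one_iff_dvd he] at h6
    have hm1 : m = 1 := by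
      by_contra hm2
      have : (2 : ℤ) ^ 3 ∣ 4 := (pow_dvd_pow 2 (by omega)).trans h6
      norm_num at this
    subst hm1
    have h1' := h1.resolve_right (by omega)
    have h2' := h2.resolve_right (by omega)
    refine hy.1 (hcent _ (mul_mem hyT hxT) ?_)
    have : (y * x) * a * (y * x)⁻¹ = a := by
      calc (y * x) * a * (y * x)⁻¹ = y * (x * a * x⁻¹) * y⁻¹ := by group
        _ = (y * a * y⁻¹)⁻¹ := by rw [h1']; group
        _ = a := by rw [h2', inv_inv]
    rw [Commute, SemiconjBy]; conv_rhs => rw [← this]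
    group
  exact ⟨m, he, (hinv x hxT hx (hsq x hxT)).1, hidx, fun y hyT hy => (hinv y hyT hy (hsq y hyT)).2⟩

end H58
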